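import Mathlib.CategoryTheory.Abelian.Injective.Resolution
import Mathlib.Algebra.Homology.Refinements
import Mathlib.Algebra.Homology.HomologicalComplexAbelian

/-!
# Two constructions with injective complexes

Embedding into a split acyclic complex of injectives, and resolutions split over a given one.
-/

set_option autoImplicit false

universe v u

open CategoryTheory CategoryTheory.Limits HomologicalComplex ZeroObject

namespace Groth.Agent.CartanEilenberg

variable {C : Type u} [Category.{v} C] [Abelian C] [EnoughInjectives C]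

/-- The split acyclic complex on the injective hulls. -/
noncomputable abbrev splitCx (A : CochainComplex C ℕ) : CochainComplex C ℕ :=
  CochainComplex.of (fun i => Injective.under (A.X i) ⊞ Injective.under (A.X (i + 1)))
    (fun _ => biprod.snd ≫ biprod.inl) (fun _ => by simp)

lemma splitCx_d (A : CochainComplex C ℕ) (i : ℕ) :
    (splitCx A).d i (i + 1) = biprod.snd ≫ biprod.inl :=
  CochainComplex.of_d (fun i => Injective.under (A.X i) ⊞ Injective.under (A.X (i + 1)))
    (fun _ => biprod.snd ≫ biprod.inl) i

theorem exists_mono_splitCx (A : CochainComplex C ℕ) :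
    ∃ (Q : CochainComplex C ℕ) (f : A ⟶ Q), Mono f ∧ (∀ i : ℕ, Injective (Q.X i)) ∧
      (∀ i : ℕ, IsZero (Q.homology (i + 1))) ∧ ∀ i : ℕ, IsSplitMono (Q.iCycles i) := by
  let f : A ⟶ splitCx A :=
    { f := fun i => biprod.lift (Injective.ι _) (A.d i (i + 1) ≫ Injective.ι _)
      comm' := fun i j h => by
        obtain rfl : i + 1 = j := h
        rw [splitCx_d]
        apply biprod.hom_ext <;> simp }
  have hz : ∀ i, (splitCx A).iCycles i ≫
      (biprod.snd : Injective.under (A.X i) ⊞ Injective.under (A.X (i + 1)) ⟶ _) = 0 := fun i => by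
    have h := (splitCx A).iCycles_d i (i + 1)
    rw [splitCx_d] at h
    simpa using h =≫ biprod.fst
  refine ⟨splitCx A, f, @mono_of_mono_f _ _ _ _ _ _ _ f (fun i => ?_),
    fun i => inferInstanceAs (Injective (_ ⊞ _)), fun i => ?_, fun i => ?_⟩
  · exact mono_of_mono_fac (biprod.lift_fst (Injective.ι (A.X i)) _)
  · have hs : ((splitCx A).iCycles (i + 1) ≫ biprod.fst ≫ biprod.inr) ≫
        (splitCx A).toCycles i (i + 1) = 𝟙 _ := by
      rw [← cancel_mono ((splitCx A).iCycles (i + 1))]
      simp only [Category.assoc, toCycles_i, splitCx_d, Category.id_comp]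
      apply biprod.hom_ext <;> simp [hz]
    refine IsZero.of_epi_eq_zero ((splitCx A).homologyπ (i + 1)) ?_
    rw [← Category.id_comp ((splitCx A).homologyπ (i + 1)), ← hs, Category.assoc,
      toCycles_comp_homologyπ, comp_zero]
  · refine IsSplitMono.mk' ⟨(splitCx A).liftCycles
      (biprod.fst ≫ biprod.inl : (splitCx A).X i ⟶ (splitCx A).X i) (i + 1) (by simp)
      (by rw [splitCx_d]; simp), ?_⟩
    rw [← cancel_mono ((splitCx A).iCycles i), Category.assoc, liftCycles_i, Category.id_comp]
    apply biprod.hom_ext <;> simp [hz]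

section Split

variable {G F : C} (α : G ⟶ F) (I : InjectiveResolution F)

/-- `I` shifted by one, starting with zero. -/
noncomputable def prevX : ℕ → C
  | 0 => 0
  | p + 1 => I.cocomplex.X p

/-- The differential into degree `p`. -/
noncomputable def prevD' : ∀ p, prevX I p ⟶ I.cocomplex.X p
  | 0 => 0
  | p + 1 => I.cocomplex.d p (p + 1)

/-- The identification of `I.cocomplex.X p` with the next previous term. -/
noncomputable def toPrev (p : ℕ) : I.cocomplex.X p ⟶ prevX I (p + 1) := 𝟙 (I.cocomplex.X p)

/-- The inverse of `toPrev`. -/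
noncomputable def fromPrev (p : ℕ) : prevX I (p + 1) ⟶ I.cocomplex.X p := 𝟙 (I.cocomplex.X p)

@[reassoc (attr := simp)]
lemma toPrev_prevD' (p : ℕ) : toPrev I p ≫ prevD' I (p + 1) = I.cocomplex.d p (p + 1) :=
  Category.id_comp _

@[reassoc (attr := simp)]
lemma fromPrev_toPrev (p : ℕ) : fromPrev I p ≫ toPrev I p = 𝟙 _ := Category.id_comp _

@[reassoc (attr := simp)]
lemma toPrev_fromPrev (p : ℕ) : toPrev I p ≫ fromPrev I p = 𝟙 _ := Category.id_comp _

lemma isZero_prevX_zero : IsZero (prevX I 0) := isZero_zero C

lemma prevD'_d : ∀ p, prevD' I p ≫ I.cocomplex.d p (p + 1) = 0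
  | 0 => zero_comp
  | _ + 1 => I.cocomplex.d_comp_d _ _ _

instance prevX_injective : ∀ p, Injective (prevX I p)
  | 0 => (isZero_prevX_zero I).injective
  | p + 1 => I.injective p

theorem exists_resolution_over :
    ∃ (J : InjectiveResolution G) (β : J.cocomplex ⟶ I.cocomplex),
      J.ι ≫ β = (CochainComplex.single₀ C).map α ≫ I.ι ∧
      ∀ p : ℕ, ∃ (K : C) (e : J.cocomplex.X p ≅ I.cocomplex.X p ⊞ K),
        β.f p = e.hom ≫ biprod.fst := by
  let L := InjectiveResolution.of G
  let γ := InjectiveResolution.desc α I L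
  let d : ∀ p, L.cocomplex.X p ⊞ (I.cocomplex.X p ⊞ prevX I p) ⟶
      L.cocomplex.X (p + 1) ⊞ (I.cocomplex.X (p + 1) ⊞ prevX I (p + 1)) := fun p =>
    biprod.map (L.cocomplex.d p (p + 1))
      (biprod.fst ≫ toPrev I p ≫ biprod.inr)
  have hd : ∀ p, d p ≫ d (p + 1) = 0 := fun p => by
    apply biprod.hom_ext <;> simp [d]
  let J : CochainComplex C ℕ := CochainComplex.of _ d hd
  have hJd : ∀ p, J.d p (p + 1) = d p := fun p => CochainComplex.of_d _ d p
  let inl : L.cocomplex ⟶ J :=
    { f := fun p => biprod.inl
      comm' := fun p q h => by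
        obtain rfl : p + 1 = q := h
        rw [hJd]
        simp [d] }
  let fst : J ⟶ L.cocomplex :=
    { f := fun p => biprod.fst
      comm' := fun p q h => by
        obtain rfl : p + 1 = q := h
        rw [hJd]
        simp [d] }
  have hif : inl ≫ fst = 𝟙 _ := by
    ext p
    exact biprod.inl_fst
  let β : J ⟶ I.cocomplex :=
    { f := fun p => biprod.desc (γ.f p) (biprod.desc (𝟙 _) (prevD' I p))
      comm' := fun p q h => by
        obtain rfl : p + 1 = q := h
        rw [hJd]
        apply biprod.hom_ext'
        · simp [d]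
        · apply biprod.hom_ext'
          · simp [d]
          · simp [d, prevD'_d] }
  have hepi : ∀ p, Epi (homologyMap inl p) := fun p => by
    cases p with
    | zero =>
      rw [epi_homologyMap_iff_up_to_refinements inl 0 0 1 (by simp) (by simp)]
      intro T y hy
      change y ≫ J.d 0 (0 + 1) = 0 at hy
      rw [hJd] at hy
      refine ⟨T, 𝟙 T, inferInstance, y ≫ biprod.fst,
        by simpa [d] using hy =≫ biprod.fst, 0, ?_⟩
      have h2 : y ≫ biprod.snd ≫ biprod.fst = 0 := by
        simpa [d] using hy =≫ (biprod.snd ≫ biprod.snd ≫ fromPrev I 0)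
      simp only [Category.id_comp, zero_comp, add_zero]
      apply biprod.hom_ext
      · simp [inl]
      · apply biprod.hom_ext
        · simpa [inl] using h2
        · exact (isZero_prevX_zero I).eq_of_tgt _ _
    | succ q =>
      rw [epi_homologyMap_iff_up_to_refinements inl q (q + 1) (q + 1 + 1) (by simp) (by simp)]
      intro T y hy
      rw [hJd] at hy
      refine ⟨T, 𝟙 T, inferInstance, y ≫ biprod.fst,
        by simpa [d] using hy =≫ biprod.fst,
        y ≫ biprod.snd ≫ biprod.snd ≫ fromPrev I q ≫ biprod.inl ≫ biprod.inr, ?_⟩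
      have h2 : y ≫ biprod.snd ≫ biprod.fst = 0 := by
        simpa [d] using hy =≫ (biprod.snd ≫ biprod.snd ≫ fromPrev I (q + 1))
      rw [hJd]
      apply biprod.hom_ext
      · simp [d, inl]
      · apply biprod.hom_ext
        · simpa [d, inl] using h2
        · simp [d, inl]
  have hqi : QuasiIso inl := ⟨fun p => by
    rw [quasiIsoAt_iff_isIso_homologyMap]
    have := hepi p
    have : IsSplitMono (homologyMap inl p) := IsSplitMono.mk'
      ⟨homologyMap fst p, by rw [← homologyMap_comp, hif, homologyMap_id]⟩
    exact isIso_of_mono_of_epi _⟩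
  let J' : InjectiveResolution G :=
    { cocomplex := J
      injective := fun p => inferInstanceAs (Injective (_ ⊞ (_ ⊞ _)))
      ι := L.ι ≫ inl
      quasiIso := inferInstance }
  refine ⟨J', β, ?_, fun p => ⟨L.cocomplex.X p ⊞ prevX I p,
    { hom := biprod.lift (β.f p) (biprod.lift biprod.fst (biprod.snd ≫ biprod.snd))
      inv := biprod.desc (biprod.inl ≫ biprod.inr)
        (biprod.desc (biprod.inl - γ.f p ≫ biprod.inl ≫ biprod.inr)
          (biprod.inr ≫ biprod.inr - prevD' I p ≫ biprod.inl ≫ biprod.inr))
      hom_inv_id := ?_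
      inv_hom_id := ?_ }, (biprod.lift_fst _ _).symm⟩⟩
  · change (L.ι ≫ inl) ≫ β = _
    have : inl ≫ β = γ := by
      ext p
      exact biprod.inl_desc _ _
    rw [Category.assoc, this]
    exact InjectiveResolution.desc_commutes α I L
  · change biprod.lift _ _ ≫ _ = 𝟙 (L.cocomplex.X p ⊞ (I.cocomplex.X p ⊞ prevX I p))
    apply biprod.hom_ext'
    · simp [β, biprod.lift_desc]
    · apply biprod.hom_ext' <;> simp [β, biprod.lift_desc]
  · apply biprod.hom_ext'
    · apply biprod.hom_ext
      · simp [β]
      · apply biprod.hom_ext <;> simp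
    · apply biprod.hom_ext'
      · apply biprod.hom_ext
        · simp [β, Preadditive.sub_comp]
        · apply biprod.hom_ext <;> simp [Preadditive.sub_comp]
      · apply biprod.hom_ext
        · simp [β, Preadditive.sub_comp]
        · apply biprod.hom_ext <;> simp [Preadditive.sub_comp]

end Split

end Groth.Agent.CartanEilenberg
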