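import Groth.Agent.CartanEilenberg.Step
import Mathlib.Algebra.Homology.HomologicalComplexAbelian
import Mathlib.Algebra.Homology.ShortComplex.Exact

/-!
# Existence of Cartan–Eilenberg resolutions

Iterate `exists_step` on cokernels and splice.
-/

set_option autoImplicit false

universe v u

open CategoryTheory CategoryTheory.Limits HomologicalComplex

namespace Groth.Agent.CartanEilenberg

variable {A : Type u} [Category.{v} A] [Abelian A]

section SES

variable {S : ShortComplex (CochainComplex A ℤ)}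

lemma homology_shortExact (hS : S.ShortExact) (h : ∀ p, Mono (homologyMap S.f p)) (p : ℤ) :
    (S.map (homologyFunctor A (ComplexShape.up ℤ) p)).ShortExact := by
  have hpq : (ComplexShape.up ℤ).Rel p (p + 1) := rfl
  have := h p
  have := h (p + 1)
  have hδ : hS.δ p (p + 1) hpq = 0 := by
    rw [← cancel_mono (homologyMap S.f (p + 1)), hS.δ_comp, zero_comp]
  have : Epi (homologyMap S.g p) :=
    (hS.homology_exact₃ p (p + 1) hpq).epi_f hδ
  exact { exact := hS.homology_exact₂ p, mono_f := h p, epi_g := this }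

lemma cycles_shortExact (hS : S.ShortExact) (h : ∀ p, Mono (homologyMap S.f p)) (p : ℤ) :
    (S.map (cyclesFunctor A (ComplexShape.up ℤ) p)).ShortExact := by
  have := hS.mono_f
  have := hS.epi_g
  have hH : Epi (homologyMap S.g p) := (homology_shortExact hS h p).epi_g
  have : Epi (cyclesMap S.g p) := by
    refine Preadditive.epi_of_cancel_zero _ (fun {W} k hk => ?_)
    have h1 : S.X₃.toCycles (p - 1) p ≫ k = 0 := by
      rw [← cancel_epi (S.g.f (p - 1)), comp_zero]
      have hn : S.g.f (p - 1) ≫ S.X₃.toCycles (p - 1) p =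
          S.X₂.toCycles (p - 1) p ≫ cyclesMap S.g p := by
        rw [← cancel_mono (S.X₃.iCycles p), Category.assoc, Category.assoc, toCycles_i,
          cyclesMap_i, toCycles_i_assoc, Hom.comm]
      rw [reassoc_of% hn, hk, comp_zero]
    let l := CokernelCofork.IsColimit.desc'
      (S.X₃.homologyIsCokernel (p - 1) p (by simp)) k h1
    have hl : S.X₃.homologyπ p ≫ l.1 = k := l.2
    have hl0 : l.1 = 0 := by
      rw [← cancel_epi (homologyMap S.g p), ← cancel_epi (S.X₂.homologyπ p),
        homologyπ_naturality_assoc, hl, hk, comp_zero, comp_zero]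
    rw [← hl, hl0, comp_zero]
  exact { exact := cycles_left_exact S hS.exact p
          mono_f := inferInstanceAs (Mono (cyclesMap S.f p))
          epi_g := this }

end SES

section Splice

variable {K J : ℕ → CochainComplex A ℤ} (ε : ∀ k, K k ⟶ J k) (π : ∀ k, J k ⟶ K (k + 1))

/-- The objects of the spliced complex, zero in negative degrees. -/
noncomputable def spliceX (J : ℕ → CochainComplex A ℤ) : ℤ → CochainComplex A ℤ
  | Int.ofNat k => J k
  | Int.negSucc _ => HomologicalComplex.zero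

/-- The differentials of the spliced complex. -/
noncomputable def spliceD : ∀ q, spliceX J q ⟶ spliceX J (q + 1)
  | Int.ofNat k => π k ≫ ε (k + 1)
  | Int.negSucc _ => 0

variable (w : ∀ k, ε k ≫ π k = 0)

include w in
lemma spliceD_comp : ∀ q, spliceD ε π q ≫ spliceD ε π (q + 1) = 0
  | Int.ofNat k => by
      change (π k ≫ ε (k + 1)) ≫ (π (k + 1) ≫ ε (k + 1 + 1)) = 0
      simp [reassoc_of% w (k + 1)]
  | Int.negSucc _ => by
      change (0 : _ ⟶ _) ≫ _ = 0
      exact zero_comp

/-- The spliced double complex. -/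
noncomputable def splice : CochainComplex (CochainComplex A ℤ) ℤ :=
  CochainComplex.of (spliceX J) (spliceD ε π) (spliceD_comp ε π w)

lemma splice_d (k : ℕ) :
    (splice ε π w).d (k : ℤ) ((k + 1 : ℕ) : ℤ) = π k ≫ ε (k + 1) :=
  CochainComplex.of_d (spliceX J) (spliceD ε π) (Int.ofNat k)

include w in
lemma splice_d₀ : ε 0 ≫ (splice ε π w).d 0 1 = 0 := by
  rw [show (splice ε π w).d 0 1 = π 0 ≫ ε 1 from splice_d ε π w 0]
  exact (Category.assoc _ _ _).symm.trans ((congrArg (· ≫ ε 1) (w 0)).trans zero_comp)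

lemma isZero_splice_neg {q : ℤ} (hq : q < 0) : IsZero ((splice ε π w).X q) := by
  obtain ⟨k, rfl⟩ := Int.eq_negSucc_of_lt_zero hq
  exact HomologicalComplex.isZero_zero

lemma splice_isInjResolutionVia (G : CochainComplex A ℤ ⥤ A) [G.PreservesZeroMorphisms]
    (hinj : ∀ k, Injective (G.obj (J k)))
    (hses : ∀ k, ((ShortComplex.mk (ε k) (π k) (w k)).map G).ShortExact) :
    CE.IsInjResolutionVia ((G.mapHomologicalComplex (ComplexShape.up ℤ)).obj (splice ε π w))
      (G.obj (K 0)) (G.map (ε 0)) := by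
  have wG : ∀ k, G.map (ε k) ≫ G.map (π k) = 0 := fun k => by
    rw [← G.map_comp, w, G.map_zero]
  have hmono : ∀ k, Mono (G.map (ε k)) := fun k => (hses k).mono_f
  have hepi : ∀ k, Epi (G.map (π k)) := fun k => (hses k).epi_g
  have hex : ∀ k, (ShortComplex.mk (G.map (ε k)) (G.map (π k)) (wG k)).Exact :=
    fun k => (hses k).exact
  have hneg : ∀ q : ℤ, q < 0 → IsZero (G.obj ((splice ε π w).X q)) :=
    fun q hq => G.map_isZero (isZero_splice_neg ε π w hq)
  have h0 : G.map (ε 0) ≫ G.map ((splice ε π w).d 0 1) = 0 := by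
    exact (G.map_comp _ _).symm.trans
      ((congrArg G.map (splice_d₀ ε π w)).trans (G.map_zero _ _))
  refine ⟨h0, ?_, ?_, ?_, hmono 0, ?_⟩
  · rw [CochainComplex.isStrictlyGE_iff]
    exact fun q hq => hneg q hq
  · intro q
    rcases lt_or_ge q 0 with hq | hq
    · exact (hneg q hq).injective
    · obtain ⟨k, rfl⟩ := Int.eq_ofNat_of_zero_le hq
      exact hinj k
  · intro q hq
    rcases lt_or_ge q 0 with hq' | hq'
    · exact ShortComplex.exact_of_isZero_X₂ _ (hneg q hq')
    · obtain ⟨k, rfl⟩ : ∃ k : ℕ, q = ((k + 1 : ℕ) : ℤ) := ⟨q.toNat - 1, by lia⟩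
      rw [exactAt_iff' _ (k : ℤ) ((k + 1 : ℕ) : ℤ) ((k + 1 + 1 : ℕ) : ℤ) (by simp) (by simp)]
      have wa : G.map (π k ≫ ε (k + 1)) ≫ G.map (π (k + 1)) = 0 := by
        rw [← G.map_comp, Category.assoc, w, comp_zero, G.map_zero]
      have wb : G.map (π k ≫ ε (k + 1)) ≫ G.map (π (k + 1) ≫ ε (k + 1 + 1)) = 0 := by
        rw [G.map_comp (π (k + 1)), reassoc_of% wa, zero_comp]
      let Sa := ShortComplex.mk (G.map (π k ≫ ε (k + 1))) (G.map (π (k + 1))) wa
      let Sb := ShortComplex.mk (G.map (π k ≫ ε (k + 1))) (G.map (π (k + 1) ≫ ε (k + 1 + 1))) wb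
      let φ₁ : Sa ⟶ ShortComplex.mk (G.map (ε (k + 1))) (G.map (π (k + 1))) (wG (k + 1)) :=
        { τ₁ := G.map (π k), τ₂ := 𝟙 _, τ₃ := 𝟙 _ }
      have : Epi φ₁.τ₁ := hepi k
      have : IsIso φ₁.τ₂ := inferInstanceAs (IsIso (𝟙 _))
      have : Mono φ₁.τ₃ := inferInstanceAs (Mono (𝟙 _))
      have ha : Sa.Exact := (ShortComplex.exact_iff_of_epi_of_isIso_of_mono φ₁).2 (hex (k + 1))
      let φ₂ : Sa ⟶ Sb :=
        { τ₁ := 𝟙 _, τ₂ := 𝟙 _, τ₃ := G.map (ε (k + 1 + 1)) }
      have : Epi φ₂.τ₁ := inferInstanceAs (Epi (𝟙 _))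
      have : IsIso φ₂.τ₂ := inferInstanceAs (IsIso (𝟙 _))
      have : Mono φ₂.τ₃ := hmono (k + 1 + 1)
      have hb : Sb.Exact := (ShortComplex.exact_iff_of_epi_of_isIso_of_mono φ₂).1 ha
      exact ShortComplex.exact_of_iso (ShortComplex.isoMk (S₁ := Sb) (Iso.refl _) (Iso.refl _)
        (Iso.refl _)
        ((Category.id_comp _).trans ((congrArg G.map (splice_d ε π w k)).trans
          (Category.comp_id _).symm))
        ((Category.id_comp _).trans ((congrArg G.map (splice_d ε π w (k + 1))).trans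
          (Category.comp_id _).symm))) hb
  · let Sa := ShortComplex.mk (G.map (ε 0)) (G.map (π 0)) (wG 0)
    let φ : Sa ⟶ ShortComplex.mk (G.map (ε 0)) (G.map ((splice ε π w).d 0 1)) h0 :=
      { τ₁ := 𝟙 _
        τ₂ := 𝟙 _
        τ₃ := G.map (ε 1)
        comm₁₂ := by simp [Sa]
        comm₂₃ := by
          change 𝟙 _ ≫ G.map ((splice ε π w).d 0 1) = G.map (π 0) ≫ G.map (ε 1)
          rw [show (splice ε π w).d 0 1 = π 0 ≫ ε 1 from splice_d ε π w 0]
          exact (Category.id_comp _).trans (G.map_comp _ _) }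
    have : Epi φ.τ₁ := inferInstanceAs (Epi (𝟙 _))
    have : IsIso φ.τ₂ := inferInstanceAs (IsIso (𝟙 _))
    have : Mono φ.τ₃ := hmono 1
    exact (ShortComplex.exact_iff_of_epi_of_isIso_of_mono φ).1 (hex 0)

end Splice

variable [EnoughInjectives A]

/-- Cartan–Eilenberg resolutions exist. -/
theorem exists_resolution (K : CochainComplex A ℤ) (n : ℤ) [K.IsStrictlyGE n] :
    ∃ (I : CochainComplex (CochainComplex A ℤ) ℤ) (ε : K ⟶ I.X 0) (_ : ε ≫ I.d 0 1 = 0),
      (∃ i : ℤ, ∀ p q : ℤ, p < i → IsZero ((I.X q).X p)) ∧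
      (∀ p : ℤ, CE.IsInjResolutionVia
        (((HomologicalComplex.eval A (ComplexShape.up ℤ) p).mapHomologicalComplex
          (ComplexShape.up ℤ)).obj I) (K.X p) (ε.f p)) ∧
      (∀ p : ℤ, CE.IsInjResolutionVia
        (((HomologicalComplex.cyclesFunctor A (ComplexShape.up ℤ) p).mapHomologicalComplex
          (ComplexShape.up ℤ)).obj I) (K.cycles p) (HomologicalComplex.cyclesMap ε p)) ∧
      (∀ p : ℤ, CE.IsInjResolutionVia
        (((HomologicalComplex.homologyFunctor A (ComplexShape.up ℤ) p).mapHomologicalComplex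
          (ComplexShape.up ℤ)).obj I) (K.homology p) (HomologicalComplex.homologyMap ε p)) := by
  let T := { L : CochainComplex A ℤ // L.IsStrictlyGE n }
  have step : ∀ s : T, ∃ (J : CochainComplex A ℤ) (ε : s.1 ⟶ J), J.IsStrictlyGE n ∧
      (∀ p, Injective (J.X p)) ∧ (∀ p, Injective (J.cycles p)) ∧
      (∀ p, Injective (J.homology p)) ∧ Mono ε ∧ ∀ p, Mono (homologyMap ε p) :=
    fun s => by
      have := s.2
      exact exists_step s.1 n
  choose Jf εf hge hX hZ hH hmono hmonoH using step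
  let next : T → T := fun s => ⟨cokernel (εf s), by
    have := hge s
    rw [CochainComplex.isStrictlyGE_iff]
    exact fun i hi => IsZero.of_epi ((cokernel.π (εf s)).f i)
      ((Jf s).isZero_of_isStrictlyGE n i hi)⟩
  let seq : ℕ → T := fun k => Nat.rec (⟨K, ‹_›⟩ : T) (fun _ s => next s) k
  let ε : ∀ k, (seq k).1 ⟶ Jf (seq k) := fun k => εf (seq k)
  let π : ∀ k, Jf (seq k) ⟶ (seq (k + 1)).1 := fun k => cokernel.π (εf (seq k))
  have w : ∀ k, ε k ≫ π k = 0 := fun k => cokernel.condition _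
  have hS : ∀ k, (ShortComplex.mk (ε k) (π k) (w k)).ShortExact := fun k =>
    { exact := ShortComplex.exact_cokernel (εf (seq k))
      mono_f := hmono (seq k)
      epi_g := inferInstanceAs (Epi (cokernel.π (εf (seq k)))) }
  refine ⟨splice (K := fun k => (seq k).1) (J := fun k => Jf (seq k)) ε π w, ε 0,
    splice_d₀ ε π w, ⟨n, ?_⟩, fun p => ?_, fun p => ?_, fun p => ?_⟩
  · intro p q hp
    rcases lt_or_ge q 0 with hq | hq
    · exact (HomologicalComplex.eval A _ p).map_isZero (isZero_splice_neg ε π w hq)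
    · obtain ⟨k, rfl⟩ := Int.eq_ofNat_of_zero_le hq
      have := hge (seq k)
      exact (Jf (seq k)).isZero_of_isStrictlyGE n p hp
  · exact splice_isInjResolutionVia ε π w (HomologicalComplex.eval A _ p)
      (fun k => hX (seq k) p) (fun k => (hS k).map_of_exact _)
  · exact splice_isInjResolutionVia ε π w (HomologicalComplex.cyclesFunctor A _ p)
      (fun k => hZ (seq k) p) (fun k => cycles_shortExact (hS k) (hmonoH (seq k)) p)
  · exact splice_isInjResolutionVia ε π w (HomologicalComplex.homologyFunctor A _ p)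
      (fun k => hH (seq k) p) (fun k => homology_shortExact (hS k) (hmonoH (seq k)) p)

end Groth.Agent.CartanEilenberg
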