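import Groth.Prelude.Def_CE
import Mathlib.Algebra.Homology.HomologySequence
import Mathlib.CategoryTheory.Abelian.Injective.Basic
import Mathlib.CategoryTheory.Retract

/-!
# One step of a Cartan–Eilenberg resolution

For a bounded below complex `K` we embed `K` in a complex with injective terms, cycles and homology,
such that the map is also injective on homology.
-/

set_option autoImplicit false

universe v u

open CategoryTheory CategoryTheory.Limits HomologicalComplex

namespace Groth.Agent.CartanEilenberg

variable {A : Type u} [Category.{v} A] [Abelian A]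

section Block

variable (E D : ℤ → A)

/-- The terms of the block complex. -/
noncomputable abbrev blockX (p : ℤ) : A := E p ⊞ (D p ⊞ D (p + 1))

/-- The differential of the block complex. -/
noncomputable def blockD (p : ℤ) : blockX E D p ⟶ blockX E D (p + 1) :=
  biprod.snd ≫ biprod.snd ≫ biprod.inl ≫ biprod.inr

lemma blockD_comp (p : ℤ) : blockD E D p ≫ blockD E D (p + 1) = 0 := by
  simp [blockD]

/-- The split complex with homology `E` built from the objects `D`. -/
noncomputable abbrev block : CochainComplex A ℤ :=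
  CochainComplex.of (blockX E D) (blockD E D) (blockD_comp E D)

lemma block_X (p : ℤ) : (block E D).X p = blockX E D p := rfl

lemma block_d (p : ℤ) : (block E D).d p (p + 1) = blockD E D p :=
  CochainComplex.of_d _ _ p

lemma block_d_fst (p q : ℤ) :
    (block E D).d p q ≫ (biprod.fst : blockX E D q ⟶ E q) = 0 := by
  by_cases h : p + 1 = q
  · subst h
    rw [block_d]
    simp [blockD]
  · rw [(block E D).shape p q h, zero_comp]

lemma inl_block_d (p q : ℤ) :
    (biprod.inl : E p ⟶ blockX E D p) ≫ (block E D).d p q = 0 := by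
  by_cases h : p + 1 = q
  · subst h
    rw [block_d]
    simp [blockD]
  · rw [(block E D).shape p q h, comp_zero]

/-- The last component of a cycle vanishes. -/
lemma iCycles_snd_snd (p : ℤ) :
    (block E D).iCycles p ≫ (biprod.snd : blockX E D p ⟶ _) ≫ biprod.snd = 0 := by
  have h := (block E D).iCycles_d p (p + 1)
  rw [block_d] at h
  have := h =≫ ((biprod.snd : blockX E D (p + 1) ⟶ _) ≫ biprod.fst)
  simpa [blockD] using this

lemma block_isStrictlyGE (n : ℤ) (hE : ∀ p, p < n → IsZero (E p))
    (hD : ∀ p, p ≤ n → IsZero (D p)) : (block E D).IsStrictlyGE n := by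
  rw [CochainComplex.isStrictlyGE_iff]
  intro p hp
  rw [IsZero.iff_id_eq_zero]
  apply biprod.hom_ext
  · exact (hE p hp).eq_of_tgt _ _
  · apply biprod.hom_ext
    · exact (hD p hp.le).eq_of_tgt _ _
    · exact (hD (p + 1) (by lia)).eq_of_tgt _ _

variable {E D}

lemma block_injective (hE : ∀ p, Injective (E p)) (hD : ∀ p, Injective (D p)) (p : ℤ) :
    Injective ((block E D).X p) := by
  have := hE p
  have := hD p
  have := hD (p + 1)
  change Injective (E p ⊞ (D p ⊞ D (p + 1)))
  infer_instance

lemma block_cycles_injective (hE : ∀ p, Injective (E p)) (hD : ∀ p, Injective (D p)) (p : ℤ) :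
    Injective ((block E D).cycles p) := by
  have := block_injective hE hD p
  let e : (block E D).X p ⟶ (block E D).X p :=
    biprod.map (𝟙 (E p)) (biprod.fst ≫ biprod.inl : D p ⊞ D (p + 1) ⟶ D p ⊞ D (p + 1))
  have he : e ≫ (block E D).d p (p + 1) = 0 := by
    rw [block_d]
    simp [e, blockD]
  let r : Retract ((block E D).cycles p) ((block E D).X p) :=
    { i := (block E D).iCycles p
      r := (block E D).liftCycles e (p + 1) (by simp) he
      retract := by
        rw [← cancel_mono ((block E D).iCycles p), Category.assoc, liftCycles_i,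
          Category.id_comp]
        have h3 := iCycles_snd_snd E D p
        apply biprod.hom_ext
        · simp [e]
        · apply biprod.hom_ext
          · simp [e]
          · simp [e, h3] }
  exact r.injective

/-- The projection of the homology of the block complex to `E`. -/
lemma exists_retract_homology (p : ℤ) :
    ∃ r : Retract ((block E D).homology p) (E p),
      (block E D).homologyπ p ≫ r.i = (block E D).iCycles p ≫ biprod.fst := by
  obtain ⟨q, rfl⟩ : ∃ q : ℤ, p = q + 1 := ⟨p - 1, by ring⟩
  have hz : (block E D).toCycles q (q + 1) ≫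
      ((block E D).iCycles (q + 1) ≫ (biprod.fst : blockX E D (q + 1) ⟶ _)) = 0 := by
    rw [toCycles_i_assoc, block_d_fst]
  let l := CokernelCofork.IsColimit.desc'
    ((block E D).homologyIsCokernel q (q + 1) (by simp)) _ hz
  have hl : (block E D).homologyπ (q + 1) ≫ l.1 =
      (block E D).iCycles (q + 1) ≫ biprod.fst := l.2
  let t : E (q + 1) ⟶ (block E D).homology (q + 1) :=
    (block E D).liftCycles (biprod.inl : E (q + 1) ⟶ blockX E D (q + 1)) (q + 1 + 1) (by simp)
      (inl_block_d E D _ _) ≫ (block E D).homologyπ (q + 1)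
  refine ⟨⟨l.1, t, ?_⟩, hl⟩
  rw [← cancel_epi ((block E D).homologyπ (q + 1)), reassoc_of% hl, Category.comp_id]
  let u : (block E D).cycles (q + 1) ⟶ (block E D).X q :=
    (block E D).iCycles (q + 1) ≫ (biprod.snd : blockX E D (q + 1) ⟶ _) ≫ biprod.fst ≫
      (biprod.inr : D (q + 1) ⟶ D q ⊞ D (q + 1)) ≫ (biprod.inr : _ ⟶ blockX E D q)
  have key : (block E D).iCycles (q + 1) ≫ (biprod.fst : blockX E D (q + 1) ⟶ _) ≫
      (block E D).liftCycles (biprod.inl : E (q + 1) ⟶ blockX E D (q + 1)) (q + 1 + 1) (by simp)
        (inl_block_d E D _ _) + u ≫ (block E D).toCycles q (q + 1) = 𝟙 _ := by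
    rw [← cancel_mono ((block E D).iCycles (q + 1))]
    simp only [Preadditive.add_comp, Category.assoc, liftCycles_i, toCycles_i,
      Category.id_comp, block_d]
    have h3 := iCycles_snd_snd E D (q + 1)
    apply biprod.hom_ext
    · simp [u, blockD]
    · apply biprod.hom_ext
      · simp [u, blockD]
      · simp [u, blockD, h3]
  have := key =≫ (block E D).homologyπ (q + 1)
  simpa [t] using this

end Block

variable [EnoughInjectives A]

lemma exists_E (K : CochainComplex A ℤ) (n : ℤ) [K.IsStrictlyGE n] (p : ℤ) :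
    ∃ (E : A) (φ : K.X p ⟶ E) (m : K.homology p ⟶ E), Injective E ∧ (p < n → IsZero E) ∧
      (∀ j, K.d j p ≫ φ = 0) ∧ Mono m ∧ K.homologyπ p ≫ m = K.iCycles p ≫ φ := by
  by_cases hp : p < n
  · have hX : IsZero (K.X p) := K.isZero_of_isStrictlyGE n p hp
    have hZ : IsZero (K.cycles p) := IsZero.of_mono (K.iCycles p) hX
    have hH : IsZero (K.homology p) := IsZero.of_epi (K.homologyπ p) hZ
    exact ⟨K.X p, 𝟙 _, 0, hX.injective, fun _ => hX, fun j => hX.eq_of_tgt _ _,
      ⟨fun a b _ => hH.eq_of_tgt a b⟩, hX.eq_of_tgt _ _⟩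
  · refine ⟨Injective.under (K.homology p),
      K.pOpcycles p ≫ Injective.factorThru (Injective.ι (K.homology p)) (K.homologyι p),
      Injective.ι (K.homology p), inferInstance, fun h => absurd h hp,
      fun j => by simp, inferInstance, ?_⟩
    rw [← homology_π_ι_assoc, Injective.comp_factorThru]

lemma exists_D (K : CochainComplex A ℤ) (n : ℤ) (p : ℤ) :
    ∃ (D : A) (g : K.X p ⟶ D), Injective D ∧ (p ≤ n → IsZero D) ∧ (n < p → Mono g) := by
  by_cases hp : p ≤ n
  · obtain ⟨Z, hZ⟩ := HasZeroObject.zero (C := A)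
    exact ⟨Z, 0, hZ.injective, fun _ => hZ, fun h => absurd hp (not_le.mpr h)⟩
  · exact ⟨Injective.under (K.X p), Injective.ι _, inferInstance, fun h => absurd h hp,
      fun _ => inferInstance⟩

/-- One step of a Cartan–Eilenberg resolution. -/
theorem exists_step (K : CochainComplex A ℤ) (n : ℤ) [K.IsStrictlyGE n] :
    ∃ (J : CochainComplex A ℤ) (ε : K ⟶ J), J.IsStrictlyGE n ∧
      (∀ p, Injective (J.X p)) ∧ (∀ p, Injective (J.cycles p)) ∧
      (∀ p, Injective (J.homology p)) ∧ Mono ε ∧ ∀ p, Mono (homologyMap ε p) := by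
  choose E φ m hE hE0 hdφ hm hmφ using exists_E K n
  choose D g hD hD0 hg using exists_D K n
  let f : ∀ p, K.X p ⟶ (block E D).X p := fun p =>
    biprod.lift (φ p) (biprod.lift (g p) (K.d p (p + 1) ≫ g (p + 1)))
  let ε : K ⟶ block E D :=
    { f := f
      comm' := by
        intro p q hpq
        obtain rfl : p + 1 = q := hpq
        rw [block_d]
        apply biprod.hom_ext
        · simp [f, blockD, hdφ]
        · apply biprod.hom_ext
          · simp [f, blockD]
          · simp [f, blockD] }
  have hεf : ∀ p, ε.f p = f p := fun p => rfl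
  refine ⟨block E D, ε, block_isStrictlyGE E D n hE0 hD0, block_injective hE hD,
    block_cycles_injective hE hD, fun p => ?_, ?_, fun p => ?_⟩
  · obtain ⟨r, -⟩ := exists_retract_homology (E := E) (D := D) p
    have := hE p
    exact r.injective
  · refine @mono_of_mono_f _ _ _ _ _ _ _ ε (fun p => ?_)
    refine Preadditive.mono_of_cancel_zero _ (fun {W} k hk => ?_)
    rw [hεf] at hk
    have hk1 : k ≫ φ p = 0 := by
      simpa [f] using hk =≫ (biprod.fst : blockX E D p ⟶ _)
    have hk2 : k ≫ g p = 0 := by
      simpa [f] using hk =≫ ((biprod.snd : blockX E D p ⟶ _) ≫ biprod.fst)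
    have hk3 : k ≫ K.d p (p + 1) = 0 := by
      rcases lt_or_ge p n with h | h
      · exact (K.isZero_of_isStrictlyGE n p h).eq_of_tgt k 0 ▸ zero_comp
      · haveI := hg (p + 1) (by lia)
        rw [← cancel_mono (g (p + 1)), zero_comp]
        simpa [f] using hk =≫ ((biprod.snd : blockX E D p ⟶ _) ≫ biprod.snd)
    rcases lt_trichotomy p n with h | h | h
    · exact (K.isZero_of_isStrictlyGE n p h).eq_of_tgt _ _
    · obtain ⟨q, rfl⟩ : ∃ q : ℤ, p = q + 1 := ⟨p - 1, by ring⟩
      have hq : IsZero (K.X q) := K.isZero_of_isStrictlyGE n q (by lia)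
      haveI : IsIso (K.homologyπ (q + 1)) :=
        K.isIso_homologyπ q (q + 1) (by simp) (hq.eq_of_src _ _)
      haveI := hm (q + 1)
      have h1 : K.liftCycles k (q + 1 + 1) (by simp) hk3 = 0 := by
        rw [← cancel_mono (K.homologyπ (q + 1) ≫ m (q + 1)), zero_comp, hmφ,
          liftCycles_i_assoc, hk1]
      rw [← K.liftCycles_i k (q + 1 + 1) (by simp) hk3, h1, zero_comp]
    · haveI := hg p h
      rwa [← cancel_mono (g p), zero_comp]
  · obtain ⟨r, hr⟩ := exists_retract_homology (E := E) (D := D) p
    haveI := hm p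
    suffices h : homologyMap ε p ≫ r.i = m p from mono_of_mono_fac h
    rw [← cancel_epi (K.homologyπ p), homologyπ_naturality_assoc, hr, hmφ, cyclesMap_i_assoc,
      hεf]
    simp [f]

end Groth.Agent.CartanEilenberg
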